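import Cfsg.Agent.H411.PrA.Defs
import Cfsg.Agent.S0713

/-!
# S3618, case A, section 4 (helper976): the sets `S`
-/

set_option autoImplicit false

open Equiv Equiv.Perm MulAction Cfsg.Agent.H411.PrA
open scoped Pointwise

namespace Cfsg.Agent.H976.PrA

universe u

/-! ## numbers -/

theorem choose_two_ge (n : ℕ) : 2 * n + 1 ≤ (n + 3).choose 2 := by
  rw [Nat.choose_two_right]
  have h : (n + 3) * (n + 3 - 1) = (n + 3) * (n + 2) := by congr 1
  rw [h, Nat.le_div_iff_mul_le (by norm_num)]
  nlinarith

theorem choose_ge (n k u : ℕ) (hk : 2 ≤ k) (hku : k + 1 ≤ u) : 2 * n + 1 ≤ (n + u).choose k := by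
  have h1 : (n + (k + 1)).choose k ≤ (n + u).choose k := Nat.choose_le_choose k (by omega)
  have h2 : (n + (k + 1)).choose k = (n + (k + 1)).choose (n + 1) :=
    Nat.choose_symm_of_eq_add (by omega)
  have h3 : (n + 3).choose (n + 1) ≤ (n + (k + 1)).choose (n + 1) := Nat.choose_le_choose _ (by omega)
  have h4 : (n + 3).choose (n + 1) = (n + 3).choose 2 := Nat.choose_symm_of_eq_add (by omega)
  have h5 := choose_two_ge n
  omega

theorem choose_add_sq (h u : ℕ) (hh : 3 ≤ h) (hu : h ≤ u) : ∀ p : ℕ, u.choose h + p * p ≤ (p + u).choose h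
  | 0 => by simp
  | n + 1 => by
    obtain ⟨k, rfl⟩ : ∃ k, h = k + 1 := ⟨h - 1, by omega⟩
    have ih := choose_add_sq (k + 1) u hh hu n
    have h1 : (n + 1 + u).choose (k + 1) = (n + u).choose k + (n + u).choose (k + 1) := by
      rw [show n + 1 + u = (n + u) + 1 by ring, Nat.choose_succ_succ]
    have h2 := choose_ge n k u (by omega) (by omega)
    rw [h1]
    nlinarith

/-! ## transitivity of the alternating group on subsets -/

theorem exists_alt {m : ℕ} (S T : Finset (Fin m)) (hc : S.card = T.card) (hm : S.card + 2 ≤ m) :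
    ∃ s : alternatingGroup (Fin m), (s : Perm (Fin m)) • S = T := by
  classical
  have e : {x // x ∈ S} ≃ {x // x ∈ T} := Finset.equivOfCardEq hc
  have hσ : ∀ x, x ∈ S → e.extendSubtype x ∈ T := fun x hx => e.extendSubtype_mem x hx
  set σ : Perm (Fin m) := e.extendSubtype with hσd
  have h1 : σ • S = T := by
    apply Finset.eq_of_subset_of_card_le
    · intro x hx
      obtain ⟨y, hy, rfl⟩ := Finset.mem_smul_finset.1 hx
      exact hσ y hy
    · rw [Finset.card_smul_finset, hc]
  have h2 : 1 < (Tᶜ : Finset (Fin m)).card := by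
    rw [Finset.card_compl, Fintype.card_fin]
    omega
  obtain ⟨i, hi, j, hj, hij⟩ := Finset.one_lt_card.1 h2
  rw [Finset.mem_compl] at hi hj
  rcases Int.units_eq_one_or (sign σ) with h | h
  · exact ⟨⟨σ, h⟩, h1⟩
  · refine ⟨⟨swap i j * σ, ?_⟩, ?_⟩
    · rw [mem_alternatingGroup, Perm.sign_mul, sign_swap hij, h]; rfl
    · show (swap i j * σ) • S = T
      rw [mul_smul, h1]
      apply Finset.eq_of_subset_of_card_le
      · intro x hx
        obtain ⟨y, hy, rfl⟩ := Finset.mem_smul_finset.1 hx
        have : swap i j y = y := swap_apply_of_ne_of_ne (fun e => hi (e ▸ hy)) (fun e => hj (e ▸ hy))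
        rw [Perm.smul_def, this]
        exact hy
      · rw [Finset.card_smul_finset]

/-! ## elements of prime order -/

theorem inj_of_ne {G X : Type*} [Group G] [MulAction G X] {p : ℕ} (hp : p.Prime) (g : G) (hg : g ^ p = 1) (t : X)
    (ht : g • t ≠ t) : ∀ i < p, ∀ j < p, g ^ i • t = g ^ j • t → i = j := by
  intro i hi j hj hij
  have hper : Function.minimalPeriod (g • ·) t = p := by
    have h1 : Function.IsPeriodicPt (g • ·) p t := by
      show (g • ·)^[p] t = t
      rw [smul_iterate, hg]
      exact one_smul G t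
    rcases (Nat.dvd_prime hp).1 h1.minimalPeriod_dvd with h | h
    · exact absurd (Function.minimalPeriod_eq_one_iff_isFixedPt.1 h) ht
    · exact h
  have h2 := Function.iterate_injOn_Iio_minimalPeriod (f := (g • ·)) (x := t)
  rw [hper] at h2
  apply h2 (Set.mem_Iio.2 hi) (Set.mem_Iio.2 hj)
  show (g • ·)^[i] t = (g • ·)^[j] t
  rw [smul_iterate, smul_iterate]
  exact hij

/-- a `p`-cycle does not fix a small set which meets its support -/
theorem smul_ne {m p : ℕ} {c : Perm (Fin m)} (hc : c.IsCycle) (hcp : c.support.card = p) {T : Finset (Fin m)}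
    (hT : T.card < p) (hd : ¬ Disjoint c.support T) : c • T ≠ T := by
  intro h
  apply hd
  rw [Finset.disjoint_left]
  intro i hi hiT
  have h1 : ∀ n : ℕ, (c ^ n) i ∈ T := by
    intro n
    have h2 : c ^ n • T = T := by
      induction n with
      | zero => simp
      | succ k ih => rw [pow_succ, mul_smul, h, ih]
    have h3 : c ^ n • i ∈ c ^ n • T := Finset.smul_mem_smul_finset hiT
    rw [h2] at h3
    exact h3
  have h4 : c.support ⊆ T := by
    intro j hj
    obtain ⟨n, hn⟩ := hc.exists_pow_eq (mem_support.1 hi) (mem_support.1 hj)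
    rw [← hn]
    exact h1 n
  have := Finset.card_le_card h4
  omega

/-! ## primitivity -/

theorem primitive_of_cycles {m p : ℕ} (hp : p.Prime) (hm : m < 2 * p) (W : Subgroup (Perm (Fin m)))
    (hW : ∀ i : Fin m, ∃ c ∈ W, orderOf c = p ∧ c i ≠ i) (_hm0 : 0 < m) : IsPreprimitive W (Fin m) := by
  classical
  have hcyc : ∀ c : Perm (Fin m), orderOf c = p → c.IsCycle ∧ c.support.card = p := by
    intro c hc
    have h1 : c.IsCycle := isCycle_of_prime_order' (by rw [hc]; exact hp) (by rw [Fintype.card_fin, hc]; exact hm)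
    exact ⟨h1, by rw [← h1.orderOf, hc]⟩
  have hmeet : ∀ c d : Perm (Fin m), orderOf c = p → orderOf d = p → ∃ k, c k ≠ k ∧ d k ≠ k := by
    intro c d hc hd
    by_contra hcon
    push Not at hcon
    have h1 : Disjoint c.support d.support := by
      rw [Finset.disjoint_left]
      intro k hk hk'
      exact mem_support.1 hk' (hcon k (mem_support.1 hk))
    have h2 := Finset.card_union_of_disjoint h1
    have h3 := Finset.card_le_univ (c.support ∪ d.support)
    rw [Fintype.card_fin, h2, (hcyc c hc).2, (hcyc d hd).2] at h3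
    omega
  have hne : Nonempty (Fin m) := ⟨⟨0, _hm0⟩⟩
  have htr : IsPretransitive W (Fin m) := by
    refine ⟨fun i j => ?_⟩
    obtain ⟨c, hc, hcp, hci⟩ := hW i
    obtain ⟨d, hd, hdp, hdj⟩ := hW j
    obtain ⟨k, hk1, hk2⟩ := hmeet c d hcp hdp
    obtain ⟨n1, hn1⟩ := (hcyc c hcp).1.exists_pow_eq hci hk1
    obtain ⟨n2, hn2⟩ := (hcyc d hdp).1.exists_pow_eq hk2 hdj
    refine ⟨⟨d ^ n2 * c ^ n1, W.mul_mem (W.pow_mem hd _) (W.pow_mem hc _)⟩, ?_⟩
    show (d ^ n2 * c ^ n1) i = j
    rw [Perm.mul_apply, hn1, hn2]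
  refine { toIsPretransitive := htr, isTrivialBlock_of_isBlock := ?_ }
  intro B hB
  by_cases hBe : B = ∅
  · left; rw [hBe]; exact Set.subsingleton_empty
  obtain ⟨i, hi⟩ := Set.nonempty_iff_ne_empty.2 hBe
  obtain ⟨c, hc, hcp, hci⟩ := hW i
  obtain ⟨hc1, hc2⟩ := hcyc c hcp
  by_cases hcB : (⟨c, hc⟩ : W) • B = B
  · right
    apply hB.eq_univ_of_card_lt
    have h1 : ∀ n : ℕ, (c ^ n) i ∈ B := by
      intro n
      have h2 : (⟨c, hc⟩ : W) ^ n • B = B := by
        induction n with
        | zero => simp
        | succ k ih => rw [pow_succ, mul_smul, hcB, ih]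
      have h3 : (⟨c, hc⟩ : W) ^ n • i ∈ (⟨c, hc⟩ : W) ^ n • B := Set.smul_mem_smul_set hi
      rw [h2] at h3
      exact h3
    have h4 : (c.support : Set (Fin m)) ⊆ B := by
      intro j hj
      obtain ⟨n, hn⟩ := hc1.exists_pow_eq hci (mem_support.1 hj)
      rw [← hn]
      exact h1 n
    have h5 := Set.ncard_le_ncard h4 (Set.toFinite B)
    rw [Set.ncard_coe_finset, hc2] at h5
    rw [Nat.card_eq_fintype_card, Fintype.card_fin]
    omega
  · left
    have hdis : Disjoint ((⟨c, hc⟩ : W) • B) B := by
      rcases MulAction.isBlock_iff_smul_eq_or_disjoint.1 hB ⟨c, hc⟩ with h | h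
      · exact absurd h hcB
      · exact h
    have hmv : ∀ j ∈ B, c j ≠ j := by
      intro j hj h
      have h0 : j ∈ (⟨c, hc⟩ : W) • B := ⟨j, hj, h⟩
      exact Set.disjoint_left.1 hdis h0 hj
    intro j hj k hk
    by_contra hjk
    obtain ⟨n, hn⟩ := hc1.exists_pow_eq (hmv j hj) (hmv k hk)
    have h1 : (⟨c, hc⟩ : W) ^ n • B = B := by
      rcases MulAction.isBlock_iff_smul_eq_or_disjoint.1 hB ((⟨c, hc⟩ : W) ^ n) with h | h
      · exact h
      · have h0 : k ∈ (⟨c, hc⟩ : W) ^ n • B := ⟨j, hj, hn⟩
        exact absurd hk (Set.disjoint_left.1 h h0)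
    have h2 : Nat.Coprime n p := by
      rw [Nat.coprime_comm, Nat.Prime.coprime_iff_not_dvd hp]
      rintro ⟨l, rfl⟩
      apply hjk
      rw [← hn, pow_mul, ← hcp, pow_orderOf_eq_one, one_pow, Perm.one_apply]
    apply hcB
    have hs : (⟨c, hc⟩ : W) ^ n ∈ stabilizer W B := h1
    have hs2 : (⟨c, hc⟩ : W) ∈ stabilizer W B := by
      have h3 : (⟨c, hc⟩ : W) ^ p = 1 := by
        apply Subtype.ext
        show c ^ p = 1
        rw [← hcp, pow_orderOf_eq_one]
      have h4 : orderOf (⟨c, hc⟩ : W) ∣ p := orderOf_dvd_of_pow_eq_one h3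
      obtain ⟨l, hl⟩ := exists_pow_eq_self_of_coprime (x := (⟨c, hc⟩ : W)) (n := n)
        (Nat.Coprime.coprime_dvd_right h4 h2)
      rw [← hl]
      exact (stabilizer W B).pow_mem hs l
    exact hs2

/-! ## the theorem -/

variable {Ω : Type u} {p q : ℕ} {K : Subgroup (Perm Ω)}

theorem mem_M {a : Ω} {x : Perm Ω} (hx : x ∈ K) (hxp : orderOf x = p) (hxa : x a = a) : x ∈ M p K a :=
  Subgroup.subset_closure ⟨hx, hxp, hxa⟩

theorem M_le {a : Ω} : M p K a ≤ K := (Subgroup.closure_le _).2 (fun _ h => h.1)

variable [Fintype Ω] [DecidableEq Ω]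

theorem order_phi (h : Setup p q K) (a : Ω) {u : ℕ} (φ : M p K a →* alternatingGroup (Fin (p + u)))
    (hφ : Function.Surjective φ) (x : M p K a) (hx : orderOf x = p) : orderOf (φ x : Perm (Fin (p + u))) = p := by
  classical
  have hp := h.prime
  have hp2 : p ≠ 2 := by have := h.two_le; have := h.lt; omega
  rw [Subgroup.orderOf_coe]
  have h1 : orderOf (φ x) ∣ p := by
    have := orderOf_map_dvd φ x
    rwa [hx] at this
  rcases (Nat.dvd_prime hp).1 h1 with h2 | h2
  · exfalso
    rw [orderOf_eq_one_iff] at h2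
    have hk : p ∣ Nat.card φ.ker := by
      have : orderOf (⟨x, h2⟩ : φ.ker) ∣ Nat.card φ.ker := orderOf_dvd_natCard _
      rwa [← Subgroup.orderOf_coe, hx] at this
    have hA : p ∣ Nat.card (alternatingGroup (Fin (p + u))) := by
      have : Nontrivial (Fin (p + u)) := by
        rw [Fin.nontrivial_iff_two_le]
        have := hp.two_le; omega
      have h3 := two_mul_nat_card_alternatingGroup (α := Fin (p + u))
      have h4 : p ∣ 2 * Nat.card (alternatingGroup (Fin (p + u))) := by
        rw [h3, Nat.card_perm, Nat.card_eq_fintype_card, Fintype.card_fin]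
        exact Nat.dvd_factorial hp.pos (by omega)
      rcases hp.dvd_mul.1 h4 with h5 | h5
      · exact absurd ((Nat.prime_dvd_prime_iff_eq hp Nat.prime_two).1 h5) hp2
      · exact h5
    have hM : p ^ 2 ∣ Nat.card (M p K a) := by
      have h3 := Subgroup.card_mul_index φ.ker
      rw [Subgroup.index_ker, MonoidHom.range_eq_top.2 hφ, Subgroup.card_top] at h3
      rw [← h3, pow_two]
      exact mul_dvd_mul hk hA
    exact h.sylow (hM.trans (Subgroup.card_dvd_of_le M_le))
  · exact h2

theorem exists_S (h : Setup p q K) (a : Ω) {u : ℕ} (hu : 3 ≤ u) (hup : u < p)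
    (φ : M p K a →* alternatingGroup (Fin (p + u))) (hφ : Function.Surjective φ) (b : Ω) (hab : b ≠ a)
    (hb : ∃ y ∈ K, orderOf y = p ∧ y a = a ∧ y b = b) :
    Bad φ b ∨ ∃ S : Finset (Fin (p + u)), 1 ≤ S.card ∧ S.card ≤ 2 ∧
      ∀ x : M p K a, orderOf x = p → ((x : Perm Ω) b = b ↔ Disjoint (φ x : Perm (Fin (p + u))).support S) := by
  classical
  have hp := h.prime
  have hord := order_phi h a φ hφ
  obtain ⟨y0, hy0K, hy0p, hy0a, hy0b⟩ := hb
  set Y : M p K a := ⟨y0, mem_M hy0K hy0p hy0a⟩ with hY
  have hYp : orderOf Y = p := by rw [← Subgroup.orderOf_coe]; exact hy0p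
  set S : Finset (Fin (p + u)) := Finset.univ.filter (fun i => ∀ y : M p K a, (y : Perm Ω) b = b →
    orderOf (φ y : Perm (Fin (p + u))) = p → (φ y : Perm (Fin (p + u))) i = i) with hS
  have hcyc : ∀ c : Perm (Fin (p + u)), orderOf c = p → c.IsCycle ∧ c.support.card = p := by
    intro c hc
    have h1 : c.IsCycle := isCycle_of_prime_order' (by rw [hc]; exact hp)
      (by rw [Fintype.card_fin, hc]; omega)
    exact ⟨h1, by rw [← h1.orderOf, hc]⟩
  -- the supports are disjoint from `S`
  have hdis : ∀ y : M p K a, (y : Perm Ω) b = b → orderOf (φ y : Perm (Fin (p + u))) = p →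
      Disjoint (φ y : Perm (Fin (p + u))).support S := by
    intro y hy hyp
    rw [Finset.disjoint_left]
    intro i hi hiS
    exact mem_support.1 hi ((Finset.mem_filter.1 hiS).2 y hy hyp)
  have hScard : S.card ≤ u := by
    have h1 := hdis Y hy0b (hord Y hYp)
    have h2 := Finset.card_union_of_disjoint h1
    have h3 := Finset.card_le_univ ((φ Y : Perm (Fin (p + u))).support ∪ S)
    rw [Fintype.card_fin, h2, (hcyc _ (hord Y hYp)).2] at h3
    omega
  rcases Finset.eq_empty_or_nonempty S with hSe | hSn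
  · -- the transitive case
    left
    set W : Subgroup (Perm (Fin (p + u))) :=
      (stabilizer (M p K a) b).map ((alternatingGroup (Fin (p + u))).subtype.comp φ) with hW
    have hprim : IsPreprimitive W (Fin (p + u)) := by
      apply primitive_of_cycles hp (by omega) W _ (by omega)
      intro i
      have hi : i ∉ S := by rw [hSe]; exact Finset.notMem_empty i
      rw [hS, Finset.mem_filter] at hi
      push Not at hi
      obtain ⟨y, hy, hyp, hyi⟩ := hi (Finset.mem_univ i)
      exact ⟨_, Subgroup.mem_map.2 ⟨y, hy, rfl⟩, hyp, hyi⟩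
    have hmem : (φ Y : Perm (Fin (p + u))) ∈ W := Subgroup.mem_map.2 ⟨Y, hy0b, rfl⟩
    have hA := Cfsg.Agent.S0713.result W hprim hp (by rw [Fintype.card_fin]; have := hp.two_le; omega)
      (by rw [Fintype.card_fin]; omega) (hcyc _ (hord Y hYp)).1 (hcyc _ (hord Y hYp)).2 hmem
    intro s
    obtain ⟨y, hy, hys⟩ := Subgroup.mem_map.1 (hA s.2)
    exact ⟨y, hy, Subtype.ext hys⟩
  · right
    -- `S` is invariant
    have hinv : ∀ w : M p K a, (w : Perm Ω) b = b → (φ w : Perm (Fin (p + u))) • S = S := by
      intro w hw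
      apply Finset.eq_of_subset_of_card_le _ (by rw [Finset.card_smul_finset])
      intro j hj
      obtain ⟨i, hi, rfl⟩ := Finset.mem_smul_finset.1 hj
      rw [hS, Finset.mem_filter]
      refine ⟨Finset.mem_univ _, fun y hy hyp => ?_⟩
      have h1 := (Finset.mem_filter.1 hi).2 (w⁻¹ * y * w) ?_ ?_
      · rw [map_mul, map_mul, map_inv] at h1
        simp only [Subgroup.coe_mul, Subgroup.coe_inv, Perm.mul_apply] at h1
        rw [Perm.inv_eq_iff_eq] at h1
        exact h1
      · simp only [Subgroup.coe_mul, Subgroup.coe_inv, Perm.mul_apply]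
        rw [hw, hy, Perm.inv_eq_iff_eq, hw]
      · rw [map_mul, map_mul, map_inv]
        simp only [Subgroup.coe_mul, Subgroup.coe_inv]
        have h2 : ((φ w : Perm (Fin (p + u)))⁻¹ * (φ y : Perm (Fin (p + u))) * (φ w : Perm (Fin (p + u)))) ^ p = 1 := by
          have h3 := conj_pow (i := p) (a := (φ w : Perm (Fin (p + u)))⁻¹) (b := (φ y : Perm (Fin (p + u))))
          rw [inv_inv] at h3
          rw [h3, orderOf_dvd_iff_pow_eq_one.1 (dvd_of_eq hyp), mul_one, inv_mul_cancel]
        rcases (Nat.dvd_prime hp).1 (orderOf_dvd_of_pow_eq_one h2) with h3 | h3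
        · exfalso
          rw [orderOf_eq_one_iff] at h3
          have h4 : (φ y : Perm (Fin (p + u))) = 1 := by
            have h5 : (φ w : Perm (Fin (p + u))) * ((φ w : Perm (Fin (p + u)))⁻¹ * (φ y : Perm (Fin (p + u))) *
              (φ w : Perm (Fin (p + u)))) * (φ w : Perm (Fin (p + u)))⁻¹ = (φ y : Perm (Fin (p + u))) := by group
            rw [← h5, h3]; group
          rw [h4, orderOf_one] at hyp
          exact hp.one_lt.ne hyp
        · exact h3
    have hwd : ∀ y y' : M p K a, (y : Perm Ω) b = (y' : Perm Ω) b →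
        (φ y : Perm (Fin (p + u))) • S = (φ y' : Perm (Fin (p + u))) • S := by
      intro y y' hyy
      have h1 := hinv (y'⁻¹ * y) (by
        simp only [Subgroup.coe_mul, Subgroup.coe_inv, Perm.mul_apply]
        rw [hyy]; exact Equiv.symm_apply_apply _ _)
      rw [map_mul, map_inv, Subgroup.coe_mul, Subgroup.coe_inv, mul_smul, inv_smul_eq_iff] at h1
      exact h1
    have htr : ∀ T : Finset (Fin (p + u)), T.card = S.card → ∃ y : M p K a, (φ y : Perm (Fin (p + u))) • S = T := by
      intro T hT
      obtain ⟨s, hs⟩ := exists_alt S T hT.symm (by omega)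
      obtain ⟨y, hy⟩ := hφ s
      exact ⟨y, by rw [hy, hs]⟩
    have hsupp : ∀ x : M p K a, orderOf x = p → (x : Perm Ω).support.card = q * p := fun x hx =>
      h.supp x (M_le x.2) (by rw [Subgroup.orderOf_coe, hx])
    have hqp : q * p < p * p := Nat.mul_lt_mul_of_pos_right h.lt hp.pos
    -- size at most two
    have hS2 : S.card ≤ 2 := by
      by_contra hcon
      push Not at hcon
      choose yy hyy using htr
      set c : Perm (Fin (p + u)) := (φ Y : Perm (Fin (p + u))) with hc
      obtain ⟨hc1, hc2⟩ := hcyc c (hord Y hYp)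
      set TT : Finset (Finset (Fin (p + u))) :=
        (Finset.univ.powersetCard S.card) \ ((c.supportᶜ).powersetCard S.card) with hTT
      have hTTc : p * p ≤ TT.card := by
        rw [hTT, Finset.card_sdiff_of_subset (Finset.powersetCard_mono (Finset.subset_univ _)),
          Finset.card_powersetCard, Finset.card_powersetCard, Finset.card_compl, Finset.card_univ,
          Fintype.card_fin, hc2]
        have h1 := choose_add_sq S.card u hcon hScard p
        rw [show p + u - p = u by omega]
        omega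
      have hmem : ∀ T ∈ TT, T.card = S.card ∧ ¬ Disjoint c.support T := by
        intro T hT
        rw [hTT, Finset.mem_sdiff, Finset.mem_powersetCard, Finset.mem_powersetCard] at hT
        refine ⟨hT.1.2, fun hd => hT.2 ⟨?_, hT.1.2⟩⟩
        intro i hi
        rw [Finset.mem_compl]
        exact fun hi' => Finset.disjoint_left.1 hd hi' hi
      have hle : TT.card ≤ (Y : Perm Ω).support.card := by
        apply Finset.card_le_card_of_injOn (fun T => if hT : T.card = S.card then (yy T hT : Perm Ω) b else b)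
        · intro T hT
          have hT := hmem T hT
          simp only [hT.1, dif_pos, Finset.mem_coe, mem_support]
          intro hfix
          apply smul_ne hc1 hc2 (by omega : T.card < p) hT.2
          have h1 := hwd (Y * yy T hT.1) (yy T hT.1) (by
            rw [Subgroup.coe_mul, Perm.mul_apply]; exact hfix)
          rw [map_mul, Subgroup.coe_mul, mul_smul, hyy T hT.1] at h1
          exact h1
        · intro T hT T' hT' he
          have hT := hmem T hT
          have hT' := hmem T' hT'
          simp only [hT.1, hT'.1, dif_pos] at he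
          have h1 := hwd _ _ he
          rw [hyy T hT.1, hyy T' hT'.1] at h1
          exact h1
      rw [hsupp Y hYp] at hle
      omega
    refine ⟨S, Finset.card_pos.2 hSn, hS2, fun x hx => ⟨fun hxb => hdis x hxb (hord x hx), fun hd => ?_⟩⟩
    -- the converse
    by_contra hxb
    set c : Perm (Fin (p + u)) := (φ x : Perm (Fin (p + u))) with hc
    obtain ⟨hc1, hc2⟩ := hcyc c (hord x hx)
    have hcS : ∀ n : ℕ, c ^ n • S = S := by
      intro n
      have h1 : c • S = S := by
        apply Finset.eq_of_subset_of_card_le _ (by rw [Finset.card_smul_finset])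
        intro j hj
        obtain ⟨i, hi, rfl⟩ := Finset.mem_smul_finset.1 hj
        have : c i = i := by
          by_contra hne
          exact Finset.disjoint_left.1 hd (mem_support.2 hne) hi
        rw [Perm.smul_def, this]
        exact hi
      induction n with
      | zero => simp
      | succ k ih => rw [pow_succ, mul_smul, h1, ih]
    obtain ⟨i0, hi0⟩ := hSn
    obtain ⟨j0, hj0⟩ : c.support.Nonempty := Finset.card_pos.1 (by rw [hc2]; exact hp.pos)
    have hj0S : j0 ∉ S := fun h1 => Finset.disjoint_left.1 hd hj0 h1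
    obtain ⟨y, hy⟩ := htr (insert j0 (S.erase i0)) (by
      rw [Finset.card_insert_of_notMem (fun h1 => hj0S (Finset.mem_of_mem_erase h1)),
        Finset.card_erase_add_one hi0])
    set T := (φ y : Perm (Fin (p + u))) • S with hT
    have hTc : T.card = S.card := by rw [hT, Finset.card_smul_finset]
    have hTne : c • T ≠ T := by
      apply smul_ne hc1 hc2 (by omega)
      intro h1
      apply Finset.disjoint_left.1 h1 hj0
      rw [hy]
      exact Finset.mem_insert_self _ _
    have hcp : c ^ p = 1 := orderOf_dvd_iff_pow_eq_one.1 (dvd_of_eq (hord x hx))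
    have hxp : (x : Perm Ω) ^ p = 1 :=
      orderOf_dvd_iff_pow_eq_one.1 (dvd_of_eq (by rw [Subgroup.orderOf_coe]; exact hx))
    have hval : ∀ j i : ℕ, (φ (x ^ j * (y * x ^ i)) : Perm (Fin (p + u))) • S = c ^ j • T := by
      intro j i
      rw [map_mul, map_mul, map_pow, map_pow, Subgroup.coe_mul, Subgroup.coe_mul, Subgroup.coe_pow,
        Subgroup.coe_pow, mul_smul, mul_smul, ← hc, hcS]
    have hle : (Finset.range p ×ˢ Finset.range p).card ≤ (x : Perm Ω).support.card := by
      apply Finset.card_le_card_of_injOn (fun ji => ((x ^ ji.1 * (y * x ^ ji.2) : M p K a) : Perm Ω) b)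
      · rintro ⟨j, i⟩ hji
        simp only [Finset.mem_coe, mem_support]
        intro hfix
        apply hTne
        have h1 := hwd (x * (x ^ j * (y * x ^ i))) (x ^ j * (y * x ^ i)) (by
          rw [Subgroup.coe_mul, Perm.mul_apply]; exact hfix)
        rw [← mul_assoc, ← pow_succ', hval, hval, pow_succ, mul_smul] at h1
        exact smul_left_cancel _ h1
      · rintro ⟨j, i⟩ hji ⟨j', i'⟩ hji' he
        simp only [Finset.coe_product, Finset.coe_range, Set.mem_prod, Set.mem_Iio] at hji hji'
        simp only at he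
        have h1 := hwd _ _ he
        rw [hval, hval] at h1
        have h2 : j = j' := inj_of_ne hp c hcp T hTne j hji.1 j' hji'.1 h1
        subst h2
        simp only [Subgroup.coe_mul, Subgroup.coe_pow, Perm.mul_apply] at he
        have h3 := (y : Perm Ω).injective (((x : Perm Ω) ^ j).injective he)
        have h4 : i = i' := inj_of_ne hp (x : Perm Ω) hxp b hxb i hji.2 i' hji'.2 h3
        rw [h4]
    rw [Finset.card_product, Finset.card_range, hsupp x hx] at hle
    omega

end Cfsg.Agent.H976.PrA
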