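import Cfsg.Agent.H411.PrA.Defs
import Cfsg.Agent.H976.PrA.ExistsS

/-!
# S3618, case A, section 6 (helper976): the combinatorial structure
-/

set_option autoImplicit false

open Equiv Equiv.Perm MulAction Cfsg.Agent.H411.PrA
open scoped Pointwise

namespace Cfsg.Agent.H976.PrA

universe u

theorem pcyc {p u : ℕ} (hp : p.Prime) (hup : u < p) (c : Perm (Fin (p + u))) (hc : orderOf c = p) :
    c.IsCycle ∧ c.support.card = p := by
  have h1 : c.IsCycle := isCycle_of_prime_order' (by rw [hc]; exact hp)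
    (by rw [Fintype.card_fin, hc]; omega)
  exact ⟨h1, by rw [← h1.orderOf, hc]⟩

/-- a `p`-cycle with given support -/
theorem exists_cycle_support {m p : ℕ} (hp : p.Prime) (hp2 : p ≠ 2) (T : Finset (Fin m)) (hT : T.card = p) :
    ∃ s : alternatingGroup (Fin m), orderOf (s : Perm (Fin m)) = p ∧ (s : Perm (Fin m)).support = T := by
  classical
  have hnd : T.toList.Nodup := T.nodup_toList
  have hl : T.toList.length = p := by rw [Finset.length_toList, hT]
  have hcyc := List.isCycle_formPerm hnd (by rw [hl]; exact hp.two_le)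
  have hsup := List.support_formPerm_of_nodup T.toList hnd (by
    intro x hx
    have := congrArg List.length hx
    rw [hl, List.length_singleton] at this
    exact hp.one_lt.ne' this)
  rw [Finset.toList_toFinset] at hsup
  refine ⟨⟨T.toList.formPerm, ?_⟩, ?_, hsup⟩
  · rw [mem_alternatingGroup, hcyc.sign, hsup, hT, Odd.neg_one_pow (hp.odd_of_ne_two hp2), neg_neg]
  · show orderOf T.toList.formPerm = p
    rw [hcyc.orderOf, hsup, hT]

theorem two_choose (u : ℕ) (hu : 1 ≤ u) : ∀ p : ℕ, 2 * u.choose 2 + p * p ≤ 2 * (p + u).choose 2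
  | 0 => by simp
  | n + 1 => by
    have ih := two_choose u hu n
    have h1 : (n + 1 + u).choose 2 = (n + u).choose 1 + (n + u).choose 2 := by
      rw [show n + 1 + u = (n + u) + 1 by ring, Nat.choose_succ_succ]
    rw [Nat.choose_one_right] at h1
    nlinarith

variable {Ω : Type u} {p q : ℕ} {K : Subgroup (Perm Ω)}

theorem M_fix {a : Ω} {x : Perm Ω} (hx : x ∈ M p K a) : x a = a := by
  have : M p K a ≤ MulAction.stabilizer (Perm Ω) a := (Subgroup.closure_le _).mpr fun y hy => hy.2.2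
  exact this hx

/-- `S` describes which elements of order `p` of `M` fix `b` -/
def Good {a : Ω} {m : ℕ} (φ : M p K a →* alternatingGroup (Fin m)) (b : Ω) (S : Finset (Fin m)) : Prop :=
  1 ≤ S.card ∧ S.card ≤ 2 ∧
    ∀ x : M p K a, orderOf x = p → ((x : Perm Ω) b = b ↔ Disjoint (φ x : Perm (Fin m)).support S)

theorem orderOf_conj' {G : Type*} [Group G] (x y : G) : orderOf (y⁻¹ * x * y) = orderOf x := by
  have := (MulAut.conj y⁻¹).orderOf_eq x
  simpa [MulAut.conj_apply] using this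

theorem Good.smul {a : Ω} {m : ℕ} {φ : M p K a →* alternatingGroup (Fin m)} {b : Ω} {S : Finset (Fin m)}
    (hG : Good φ b S) (y : M p K a) : Good φ ((y : Perm Ω) b) ((φ y : Perm (Fin m)) • S) := by
  refine ⟨by rw [Finset.card_smul_finset]; exact hG.1, by rw [Finset.card_smul_finset]; exact hG.2.1, ?_⟩
  intro x hx
  have h1 := hG.2.2 (y⁻¹ * x * y) (by rw [orderOf_conj', hx])
  have h2 : ((y⁻¹ * x * y : M p K a) : Perm Ω) b = b ↔ (x : Perm Ω) ((y : Perm Ω) b) = (y : Perm Ω) b := by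
    simp only [Subgroup.coe_mul, Subgroup.coe_inv, Perm.mul_apply]
    rw [Perm.inv_eq_iff_eq, eq_comm]
  rw [← h2, h1, Finset.disjoint_left, Finset.disjoint_left]
  have h3 : ∀ i, i ∈ (φ (y⁻¹ * x * y) : Perm (Fin m)).support ↔
      (φ y : Perm (Fin m)) i ∈ (φ x : Perm (Fin m)).support := by
    intro i
    rw [mem_support, mem_support, map_mul, map_mul, map_inv]
    simp only [Subgroup.coe_mul, Subgroup.coe_inv, Perm.mul_apply]
    rw [ne_eq, ne_eq, Perm.inv_eq_iff_eq, eq_comm]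
  constructor
  · intro h j hj hj'
    obtain ⟨i, hi, rfl⟩ := Finset.mem_smul_finset.1 hj'
    exact h ((h3 i).2 hj) hi
  · intro h i hi hi'
    exact h ((h3 i).1 hi) (Finset.smul_mem_smul_finset hi')

variable [Fintype Ω] [DecidableEq Ω]

theorem lift_cycle (h : Setup p q K) (a : Ω) {u : ℕ} (hup : u < p)
    (φ : M p K a →* alternatingGroup (Fin (p + u))) (hφ : Function.Surjective φ) (T : Finset (Fin (p + u)))
    (hT : T.card = p) : ∃ y : M p K a, orderOf y = p ∧ (φ y : Perm (Fin (p + u))).support = T := by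
  have hp := h.prime
  have hp2 : p ≠ 2 := by have := h.two_le; have := h.lt; omega
  obtain ⟨s, hs, hsT⟩ := exists_cycle_support hp hp2 T hT
  obtain ⟨y0, hy0⟩ := hφ s
  have hdvd : p ∣ orderOf y0 := by
    have h1 := orderOf_map_dvd φ y0
    rw [hy0] at h1
    have h2 : orderOf s = p := by rw [← Subgroup.orderOf_coe]; exact hs
    exact h2.symm.dvd.trans h1
  have hyk : orderOf (y0 ^ (orderOf y0 / p)) = p :=
    orderOf_pow_orderOf_div (orderOf_pos y0).ne' hdvd
  refine ⟨y0 ^ (orderOf y0 / p), hyk, ?_⟩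
  have h1 := order_phi h a φ hφ _ hyk
  apply Finset.eq_of_subset_of_card_le
  · rw [map_pow, Subgroup.coe_pow, hy0, ← hsT]
    exact support_pow_le _ _
  · rw [hT, (pcyc hp hup _ h1).2]

theorem Good.subset (h : Setup p q K) {a : Ω} {u : ℕ} (hu : 3 ≤ u) (hup : u < p)
    {φ : M p K a →* alternatingGroup (Fin (p + u))} (hφ : Function.Surjective φ) {b : Ω}
    {S S' : Finset (Fin (p + u))} (hS : Good φ b S) (hS' : Good φ b S') : S ⊆ S' := by
  intro i hi
  by_contra hi'
  obtain ⟨T, hiT, hT, hTp⟩ := Finset.exists_subsuperset_card_eq (s := {i}) (t := S'ᶜ) (n := p)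
    (by rw [Finset.singleton_subset_iff, Finset.mem_compl]; exact hi')
    (by rw [Finset.card_singleton]; exact h.prime.one_lt.le)
    (by rw [Finset.card_compl, Fintype.card_fin]; have := hS'.2.1; omega)
  obtain ⟨y, hy, hyT⟩ := lift_cycle h a hup φ hφ T hTp
  have h1 : (y : Perm Ω) b = b := by
    rw [hS'.2.2 y hy, hyT, Finset.disjoint_left]
    intro j hj
    exact Finset.mem_compl.1 (hT hj)
  rw [hS.2.2 y hy, hyT, Finset.disjoint_left] at h1
  exact h1 (hiT (Finset.mem_singleton_self i)) hi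

theorem Good.unique (h : Setup p q K) {a : Ω} {u : ℕ} (hu : 3 ≤ u) (hup : u < p)
    {φ : M p K a →* alternatingGroup (Fin (p + u))} (hφ : Function.Surjective φ) {b : Ω}
    {S S' : Finset (Fin (p + u))} (hS : Good φ b S) (hS' : Good φ b S') : S = S' :=
  Finset.Subset.antisymm (hS.subset h hu hup hφ hS') (hS'.subset h hu hup hφ hS)

/-- section 6, with the result of section 5 as a hypothesis -/
theorem exists_geo_of (h : Setup p q K) (a : Ω) {u : ℕ} (hu : 3 ≤ u) (hup : u < p)
    (φ : M p K a →* alternatingGroup (Fin (p + u))) (hφ : Function.Surjective φ)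
    (hnb : ∀ b : Ω, b ≠ a → (∃ y ∈ K, orderOf y = p ∧ y a = a ∧ y b = b) → ¬ Bad φ b)
    (b₀ : Ω) (hb₀ : b₀ ≠ a) (hy₀ : ∃ y ∈ K, orderOf y = p ∧ y a = a ∧ y b₀ = b₀)
    (h5 : 5 ≤ u ∨ ∃ i : Fin (p + u), ∀ y : M p K a, (y : Perm Ω) b₀ = b₀ → ((φ y : Perm (Fin (p + u))) i = i)) :
    ∃ B ε : ℕ, ε ≤ 1 ∧ (1 ≤ B ∨ (ε = 1 ∧ 5 ≤ u)) ∧
      Nonempty (Geo p (p + u) B ε {x : Perm Ω | x ∈ K ∧ orderOf x = p}) := by
  classical
  have hp := h.prime
  set XX : Set (Perm Ω) := {x : Perm Ω | x ∈ K ∧ orderOf x = p} with hXX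
  have hex : ∀ b : Ω, a ≠ b ∧ NF XX a b → ∃ S, Good φ b S := by
    rintro b ⟨hab, x, ⟨hxK, hxp⟩, hxa, hxb⟩
    rcases exists_S h a hu hup φ hφ b hab.symm ⟨x, hxK, hxp, hxa, hxb⟩ with h1 | ⟨S, h1, h2, h3⟩
    · exact absurd h1 (hnb b hab.symm ⟨x, hxK, hxp, hxa, hxb⟩)
    · exact ⟨S, h1, h2, h3⟩
  set S0 : Ω → Finset (Fin (p + u)) := fun b => if hb : a ≠ b ∧ NF XX a b then Classical.choose (hex b hb) else ∅
    with hS0
  have hgood : ∀ b : Ω, a ≠ b → NF XX a b → Good φ b (S0 b) := by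
    intro b hab hb
    have : S0 b = Classical.choose (hex b ⟨hab, hb⟩) := by rw [hS0]; exact dif_pos ⟨hab, hb⟩
    rw [this]
    exact Classical.choose_spec (hex b ⟨hab, hb⟩)
  -- moving points by `M`
  have hmove : ∀ (y : M p K a) (b : Ω), a ≠ b → NF XX a b → a ≠ (y : Perm Ω) b ∧ NF XX a ((y : Perm Ω) b) ∧
      S0 ((y : Perm Ω) b) = (φ y : Perm (Fin (p + u))) • S0 b := by
    intro y b hab hb
    have hya := M_fix y.2
    have h1 : a ≠ (y : Perm Ω) b := by
      intro h2
      apply hab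
      apply (y : Perm Ω).injective
      rw [hya, ← h2]
    have h2 : NF XX a ((y : Perm Ω) b) := by
      obtain ⟨x, ⟨hxK, hxp⟩, hxa, hxb⟩ := hb
      refine ⟨(y : Perm Ω) * x * (y : Perm Ω)⁻¹, ⟨K.mul_mem (K.mul_mem (M_le y.2) hxK) (K.inv_mem (M_le y.2)), ?_⟩, ?_, ?_⟩
      · exact ((MulAut.conj (y : Perm Ω)).orderOf_eq x).trans hxp
      · have h3 : (y : Perm Ω)⁻¹ a = a := by rw [Perm.inv_eq_iff_eq]; exact hya.symm
        rw [Perm.mul_apply, Perm.mul_apply, h3, hxa, hya]
      · have h3 : (y : Perm Ω)⁻¹ ((y : Perm Ω) b) = b := by rw [Perm.inv_eq_iff_eq]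
        rw [Perm.mul_apply, Perm.mul_apply, h3, hxb]
    exact ⟨h1, h2, (hgood _ h1 h2).unique h hu hup hφ ((hgood b hab hb).smul y)⟩
  set E : Finset (Fin (p + u)) → Set Ω := fun S => {b | a ≠ b ∧ NF XX a b ∧ S0 b = S} with hE
  have hEcard : ∀ S T : Finset (Fin (p + u)), S.card = T.card → S.card + 2 ≤ p + u → (E S).ncard ≤ (E T).ncard := by
    intro S T hST hS2
    obtain ⟨s, hs⟩ := exists_alt S T hST hS2
    obtain ⟨y, hy⟩ := hφ s
    apply Set.ncard_le_ncard_of_injOn (fun b => (y : Perm Ω) b)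
    · rintro b ⟨hab, hb, hbS⟩
      obtain ⟨h1, h2, h3⟩ := hmove y b hab hb
      refine ⟨h1, h2, ?_⟩
      rw [h3, hbS, hy, hs]
    · intro b _ b' _ hbb
      exact (y : Perm Ω).injective hbb
  have hEeq : ∀ S T : Finset (Fin (p + u)), S.card = T.card → S.card ≤ 2 → (E S).ncard = (E T).ncard := by
    intro S T hST hS2
    have := hp.two_le
    exact le_antisymm (hEcard S T hST (by omega)) (hEcard T S hST.symm (by omega))
  have hp2 := hp.two_le
  set i0 : Fin (p + u) := ⟨0, by omega⟩ with hi0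
  set i1 : Fin (p + u) := ⟨1, by omega⟩ with hi1
  have hi01 : i0 ≠ i1 := by
    intro h1
    have := congrArg Fin.val h1
    simp [hi0, hi1] at this
  set B := (E {i0}).ncard with hB
  set ε := (E {i0, i1}).ncard with hε
  have hBall : ∀ i, (E {i}).ncard = B := fun i => hEeq _ _ (by simp) (by simp)
  have hεall : ∀ S : Finset (Fin (p + u)), S.card = 2 → (E S).ncard = ε := fun S hS =>
    hEeq _ _ (by rw [hS, Finset.card_pair hi01]) (by omega)
  -- `ε ≤ 1`
  obtain ⟨y₀, hy₀K, hy₀p, hy₀a, hy₀b⟩ := hy₀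
  set Y : M p K a := ⟨y₀, mem_M hy₀K hy₀p hy₀a⟩ with hY
  have hYp : orderOf Y = p := by rw [← Subgroup.orderOf_coe]; exact hy₀p
  have hcyc := pcyc hp hup _ (order_phi h a φ hφ Y hYp)
  have hε1 : ε ≤ 1 := by
    set P := (φ Y : Perm (Fin (p + u))).support with hP
    set TT : Finset (Finset (Fin (p + u))) := (Finset.univ.powersetCard 2) \ (Pᶜ.powersetCard 2) with hTT
    have hTTc : q * p < TT.card * 2 := by
      rw [hTT, Finset.card_sdiff_of_subset (Finset.powersetCard_mono (Finset.subset_univ _)),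
        Finset.card_powersetCard, Finset.card_powersetCard, Finset.card_compl, Finset.card_univ,
        Fintype.card_fin, hcyc.2]
      have h1 := two_choose u (by omega) p
      rw [show p + u - p = u by omega]
      have h2 : q * p < p * p := Nat.mul_lt_mul_of_pos_right h.lt hp.pos
      omega
    have hs : (Y : Perm Ω).support.card = q * p := h.supp _ (M_le Y.2) hy₀p
    obtain ⟨T, hT, hT2⟩ := Finset.exists_card_fiber_lt_of_card_lt_mul (s := (Y : Perm Ω).support) (t := TT)
      (f := S0) (n := 2) (by rw [hs]; exact hTTc)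
    have hT' : T.card = 2 ∧ ¬ Disjoint P T := by
      rw [hTT, Finset.mem_sdiff, Finset.mem_powersetCard, Finset.mem_powersetCard] at hT
      refine ⟨hT.1.2, fun hd => hT.2 ⟨?_, hT.1.2⟩⟩
      intro i hi
      rw [Finset.mem_compl]
      exact fun hi' => Finset.disjoint_left.1 hd hi' hi
    rw [← hεall T hT'.1]
    have hle : (E T).ncard ≤ ((Y : Perm Ω).support.filter (fun x => S0 x = T)).card := by
      rw [← Set.ncard_coe_finset]
      apply Set.ncard_le_ncard _ (Set.toFinite _)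
      rintro b ⟨hab, hb, hbS⟩
      rw [Finset.mem_coe, Finset.mem_filter, mem_support]
      refine ⟨fun hYb => hT'.2 ?_, hbS⟩
      rw [(hgood b hab hb).2.2 Y hYp, hbS] at hYb
      exact hYb
    omega
  have hnf₀ : NF XX a b₀ := ⟨y₀, ⟨hy₀K, hy₀p⟩, hy₀a, hy₀b⟩
  have hg₀ := hgood b₀ hb₀.symm hnf₀
  refine ⟨B, ε, hε1, ?_, ?_⟩
  · -- `B` is positive
    rcases Nat.lt_or_ge (S0 b₀).card 2 with hc | hc
    · left
      obtain ⟨i, hi⟩ := Finset.card_eq_one.1 (by have := hg₀.1; omega : (S0 b₀).card = 1)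
      rw [← hBall i]
      exact (Set.ncard_pos (Set.toFinite _)).2 ⟨b₀, hb₀.symm, hnf₀, hi⟩
    · have hc2 : (S0 b₀).card = 2 := le_antisymm hg₀.2.1 hc
      have hε2 : ε = 1 := by
        apply le_antisymm hε1
        rw [← hεall _ hc2]
        exact (Set.ncard_pos (Set.toFinite _)).2 ⟨b₀, hb₀.symm, hnf₀, rfl⟩
      rcases h5 with h5 | ⟨i, hi⟩
      · right; exact ⟨hε2, h5⟩
      · exfalso
        -- `i` is in `S0 b₀`
        have hiS : i ∈ S0 b₀ := by
          by_contra hiS
          obtain ⟨T, hiT, hT, hTp⟩ := Finset.exists_subsuperset_card_eq (s := {i}) (t := (S0 b₀)ᶜ) (n := p)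
            (by rw [Finset.singleton_subset_iff, Finset.mem_compl]; exact hiS)
            (by rw [Finset.card_singleton]; exact hp.one_lt.le)
            (by rw [Finset.card_compl, Fintype.card_fin]; omega)
          obtain ⟨y, hy, hyT⟩ := lift_cycle h a hup φ hφ T hTp
          have h1 : (y : Perm Ω) b₀ = b₀ := by
            rw [hg₀.2.2 y hy, hyT, Finset.disjoint_left]
            intro j hj
            exact Finset.mem_compl.1 (hT hj)
          have h2 := hi y h1
          have h3 : i ∈ (φ y : Perm (Fin (p + u))).support := by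
            rw [hyT]; exact hiT (Finset.mem_singleton_self i)
          exact mem_support.1 h3 h2
        -- the other point
        obtain ⟨k, hk, hki⟩ : ∃ k ∈ S0 b₀, k ≠ i := by
          obtain ⟨k, hk⟩ : ((S0 b₀).erase i).Nonempty := by
            rw [← Finset.card_pos, Finset.card_erase_of_mem hiS]; omega
          exact ⟨k, Finset.mem_of_mem_erase hk, Finset.ne_of_mem_erase hk⟩
        have hSik : S0 b₀ = {i, k} := by
          symm
          apply Finset.eq_of_subset_of_card_le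
          · intro j hj
            rcases Finset.mem_insert.1 hj with rfl | hj
            · exact hiS
            · rw [Finset.mem_singleton.1 hj]; exact hk
          · rw [hc2, Finset.card_pair hki.symm]
        obtain ⟨l, hl, l', hl', hll⟩ := Finset.one_lt_card.1
          (by rw [Finset.card_compl, Fintype.card_fin]; omega : 1 < ((S0 b₀)ᶜ).card)
        rw [Finset.mem_compl] at hl hl'
        have hki' : i ≠ k := hki.symm
        have hmem : swap i k * swap l l' ∈ alternatingGroup (Fin (p + u)) := by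
          rw [mem_alternatingGroup, Perm.sign_mul, sign_swap hki', sign_swap hll]; rfl
        obtain ⟨y, hy⟩ := hφ ⟨_, hmem⟩
        have hl2 : swap l l' i = i := swap_apply_of_ne_of_ne (fun e => hl (e ▸ hiS)) (fun e => hl' (e ▸ hiS))
        have hl3 : swap l l' k = k := swap_apply_of_ne_of_ne (fun e => hl (e ▸ hk)) (fun e => hl' (e ▸ hk))
        have hyS : (φ y : Perm (Fin (p + u))) • S0 b₀ = S0 b₀ := by
          rw [hy]
          apply Finset.eq_of_subset_of_card_le _ (by rw [Finset.card_smul_finset])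
          intro j hj
          obtain ⟨j', hj', rfl⟩ := Finset.mem_smul_finset.1 hj
          rw [hSik, Finset.mem_insert, Finset.mem_singleton] at hj'
          show (swap i k * swap l l') j' ∈ S0 b₀
          rcases hj' with rfl | rfl
          · rw [Perm.mul_apply, hl2, swap_apply_left]; exact hk
          · rw [Perm.mul_apply, hl3, swap_apply_right]; exact hiS
        obtain ⟨h1, h2, h3⟩ := hmove y b₀ hb₀.symm hnf₀
        have h4 : (y : Perm Ω) b₀ = b₀ := by
          have h5 : (E (S0 b₀)).ncard ≤ 1 := by rw [hεall _ hc2]; exact hε1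
          rw [Set.ncard_le_one (Set.toFinite _)] at h5
          exact h5 _ ⟨h1, h2, by rw [h3, hyS]⟩ _ ⟨hb₀.symm, hnf₀, rfl⟩
        have h6 := hi y h4
        rw [hy] at h6
        have h7 : (swap i k * swap l l') i = i := h6
        rw [Perm.mul_apply, hl2, swap_apply_left] at h7
        exact hki h7
  · -- the structure
    have htr : ∀ c : Ω, ∃ g : Perm Ω, g ∈ K ∧ g a = c := by
      intro c
      obtain ⟨⟨g, hg⟩, hgc⟩ := h.prim.toIsPretransitive.exists_smul_eq a c
      exact ⟨g, hg, hgc⟩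
    choose g hgK hga using htr
    have hgi : ∀ c, (g c)⁻¹ c = a := fun c => by rw [Perm.inv_eq_iff_eq]; exact (hga c).symm
    -- conjugating
    have hconj : ∀ c x, x ∈ XX → x c = c → (g c)⁻¹ * x * g c ∈ XX ∧ ((g c)⁻¹ * x * g c) a = a := by
      rintro c x ⟨hxK, hxp⟩ hxc
      refine ⟨⟨K.mul_mem (K.mul_mem (K.inv_mem (hgK c)) hxK) (hgK c), ?_⟩, ?_⟩
      · rw [orderOf_conj', hxp]
      · rw [Perm.mul_apply, Perm.mul_apply, hga, hxc, hgi]
    have hconjM : ∀ c x, x ∈ XX → x c = c → (g c)⁻¹ * x * g c ∈ M p K a := fun c x hx hxc =>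
      mem_M (hconj c x hx hxc).1.1 (hconj c x hx hxc).1.2 (hconj c x hx hxc).2
    have hNF : ∀ c b, c ≠ b ∧ NF XX c b ↔ a ≠ (g c)⁻¹ b ∧ NF XX a ((g c)⁻¹ b) := by
      intro c b
      constructor
      · rintro ⟨hcb, x, hx, hxc, hxb⟩
        refine ⟨fun h1 => hcb ?_, (g c)⁻¹ * x * g c, (hconj c x hx hxc).1, (hconj c x hx hxc).2, ?_⟩
        · rw [← hga c, h1]; exact Equiv.apply_symm_apply _ _
        · have h1 : g c ((g c)⁻¹ b) = b := Equiv.apply_symm_apply _ _
          rw [Perm.mul_apply, Perm.mul_apply, h1, hxb]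
      · rintro ⟨hcb, x, ⟨hxK, hxp⟩, hxa, hxb⟩
        refine ⟨fun h1 => hcb ?_, g c * x * (g c)⁻¹, ⟨K.mul_mem (K.mul_mem (hgK c) hxK) (K.inv_mem (hgK c)), ?_⟩, ?_, ?_⟩
        · rw [← h1, hgi]
        · rw [← hxp]; exact (MulAut.conj (g c)).orderOf_eq x
        · rw [Perm.mul_apply, Perm.mul_apply, hgi, hxa, hga]
        · rw [Perm.mul_apply, Perm.mul_apply, hxb]; exact Equiv.apply_symm_apply _ _
    have hset : ∀ c (T : Finset (Fin (p + u))), {b | c ≠ b ∧ NF XX c b ∧ S0 ((g c)⁻¹ b) = T}.ncard = (E T).ncard := by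
      intro c T
      have h1 : {b | c ≠ b ∧ NF XX c b ∧ S0 ((g c)⁻¹ b) = T} = (g c) '' (E T) := by
        ext b
        rw [Set.mem_ofPred_eq, ← and_assoc, hNF, and_assoc]
        constructor
        · intro hb
          exact ⟨(g c)⁻¹ b, hb, Equiv.apply_symm_apply _ _⟩
        · rintro ⟨b', hb', rfl⟩
          have h2 : (g c)⁻¹ (g c b') = b' := Equiv.symm_apply_apply _ _
          rw [h2]
          exact hb'
      rw [h1, Set.ncard_image_of_injective _ (g c).injective]
    refine ⟨{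
      P := fun c x => if hz : (g c)⁻¹ * x * g c ∈ M p K a then (φ ⟨_, hz⟩ : Perm (Fin (p + u))).support else ∅
      S := fun c b => S0 ((g c)⁻¹ b)
      card_P := ?_
      surj_P := ?_
      card_S := ?_
      fix_iff := ?_
      card_B := ?_
      card_ε := ?_ }⟩
    · intro c x hx hxc
      rw [dif_pos (hconjM c x hx hxc)]
      exact (pcyc hp hup _ (order_phi h a φ hφ _ (by
        rw [← Subgroup.orderOf_coe]; exact (hconj c x hx hxc).1.2))).2
    · intro c T hT
      obtain ⟨y, hy, hyT⟩ := lift_cycle h a hup φ hφ T hT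
      have hz : (g c)⁻¹ * (g c * (y : Perm Ω) * (g c)⁻¹) * g c = y := by group
      refine ⟨g c * (y : Perm Ω) * (g c)⁻¹, ⟨K.mul_mem (K.mul_mem (hgK c) (M_le y.2)) (K.inv_mem (hgK c)), ?_⟩, ?_, ?_⟩
      · have h1 := (MulAut.conj (g c)).orderOf_eq (y : Perm Ω)
        rw [Subgroup.orderOf_coe, hy] at h1
        exact h1
      · rw [Perm.mul_apply, Perm.mul_apply, hgi, M_fix y.2, hga]
      · simp only [hz]
        rw [dif_pos y.2]
        exact hyT
    · intro c b hcb hn
      obtain ⟨h1, h2⟩ := (hNF c b).1 ⟨hcb, hn⟩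
      exact ⟨(hgood _ h1 h2).1, (hgood _ h1 h2).2.1⟩
    · intro c b hcb hn x hx hxc
      obtain ⟨h1, h2⟩ := (hNF c b).1 ⟨hcb, hn⟩
      rw [dif_pos (hconjM c x hx hxc)]
      have h3 := (hgood _ h1 h2).2.2 ⟨_, hconjM c x hx hxc⟩ (by
        rw [← Subgroup.orderOf_coe]; exact (hconj c x hx hxc).1.2)
      rw [← h3]
      have h4 : g c ((g c)⁻¹ b) = b := Equiv.apply_symm_apply _ _
      simp only [Perm.mul_apply, h4]
      constructor
      · intro h5; rw [h5]
      · intro h5; exact (g c)⁻¹.injective h5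
    · intro c i
      exact (hset c {i}).trans (hBall i)
    · intro c i j hij
      exact (hset c {i, j}).trans (hεall _ (Finset.card_pair hij))

/-- `exists_geo`, with `no_bad` as a hypothesis -/
theorem exists_geo_of_noBad (h : Setup p q K)
    (hnb : ∀ (a : Ω) {u : ℕ}, 3 ≤ u → u < p → ∀ φ : M p K a →* alternatingGroup (Fin (p + u)),
      Function.Surjective φ → (∃ b : Ω, b ≠ a ∧ (∃ y ∈ K, orderOf y = p ∧ y a = a ∧ y b = b) ∧ ¬ Bad φ b) →
      ∀ b : Ω, b ≠ a → (∃ y ∈ K, orderOf y = p ∧ y a = a ∧ y b = b) → ¬ Bad φ b)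
    (a : Ω) (hA : AltType p K a) :
    ∃ u B ε : ℕ, 3 ≤ u ∧ u < p ∧ ε ≤ 1 ∧ (1 ≤ B ∨ (ε = 1 ∧ 5 ≤ u)) ∧
      Nonempty (Geo p (p + u) B ε {x : Perm Ω | x ∈ K ∧ orderOf x = p}) := by
  obtain ⟨u, hu, hup, φ, hφ, b, hb, hy, hbad, h5⟩ := hA
  obtain ⟨B, ε, h1, h2, h3⟩ := exists_geo_of h a hu hup φ hφ (hnb a hu hup φ hφ ⟨b, hb, hy, hbad⟩) b hb hy h5
  exact ⟨u, B, ε, hu, hup, h1, h2, h3⟩

end Cfsg.Agent.H976.PrA
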